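import Cfsg.Agent.H515.EPO.KTwoS
import Cfsg.Agent.H358.EP.U3L
import Cfsg.Agent.H226.EX.Glue
import Cfsg.Agent.H419.EP.AllModels
import Cfsg.Agent.LieClassical.FieldTransfer

/-!
# S5745, OWN characteristic: the socles `L₃(2) ^ k` (helper515)

`l32_false` : `G` of Lie type in characteristic 2, `|G| > 1693776`: no stabiliser has the socle `L₃(2) ^ k`.
-/

set_option autoImplicit false
set_option linter.unusedSectionVars false

namespace Cfsg.Agent.H515.EPO.KTwo

open Cfsg.Agent.H284 Cfsg.Agent.H209.EPX Cfsg.Agent.H737.EPO Cfsg.Agent.H470.EPO Cfsg.Agent.KFacts.RgdFilt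
open Cfsg.Agent.H226.EX Cfsg.Agent.H419.EP

theorem div_168 : ∀ n ∈ Nat.divisors 168, 3 ∣ n → ¬ 2 ∣ n → n = 3 ∨ n = 21 := by decide

/-- the number of chambers of a group of order 168 -/
theorem chambers_168 {T : Type*} [Group T] [Finite T] [IsSimpleGroup T] (hT : ∃ a b : T, a * b ≠ b * a)
    (hc : Nat.card T = 168) {I : Type*} [Nonempty I] {S : PSys T 2 I}
    (h3 : ∀ j : I, (S.P ∅).relIndex (S.P {j}) = 3) (s : ℕ) : 1 + (S.P ∅).index ≠ 2 ^ s := by
  have : Fact (Nat.Prime 2) := ⟨Nat.prime_two⟩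
  obtain ⟨j⟩ : Nonempty I := inferInstance
  have h1 : 3 ∣ (S.P ∅).index := by
    rw [← h3 j]
    exact Subgroup.relIndex_dvd_index_of_le (S.P_mono (Set.empty_subset _))
  let Us : Sylow 2 T :=
    { S.V ∅ with
      isPGroup' := S.U_p
      is_maximal' := fun {Q} hQ hle => S.U_max Q hle hQ }
  have h2 : ¬ 2 ∣ (S.P ∅).index := by
    intro h2
    apply Us.not_dvd_index
    exact h2.trans (Subgroup.index_dvd_of_le (S.V_le ∅))
  have h4 : (S.P ∅).index ∣ 168 := by
    rw [← hc]
    exact Subgroup.index_dvd_card _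
  have h5 : (S.P ∅).index = 21 :=
    (div_168 _ (Nat.mem_divisors.2 ⟨h4, by norm_num⟩) h1 h2).resolve_left (index_ne_three hT _)
  rw [h5]
  intro h6
  have h7 : 11 ∣ 2 ^ s := by
    rw [← h6]
    norm_num
  have h8 := (show Nat.Prime 11 by norm_num).dvd_of_dvd_pow h7
  norm_num at h8

/-- **the socle `L₃(2) ^ k` in a group of Lie type in characteristic two** -/
theorem l32_false {G : Type} [Group G] [Finite G] [IsSimpleGroup G] (hG : HasFilt 2 G) (hG' : 1693776 < Nat.card G)
    {H N : Subgroup G} {T : Type} [Group T] {k : ℕ} {e : N ≃* (Fin k → T)} (h : EPS H N e)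
    {F : Type} [Field F] [Fintype F] (hF : Fintype.card F = 2)
    (f : T ≃* Matrix.ProjectiveSpecialLinearGroup (Fin 3) F) : False := by
  classical
  have : Fact (Nat.Prime 2) := ⟨Nat.prime_two⟩
  have hchar : CharP F 2 := by
    obtain ⟨p, hp⟩ := CharP.exists F
    have hp' : Fact p.Prime := ⟨(CharP.char_is_prime_or_zero F p).resolve_right (by
      rintro rfl
      have := CharP.charP_to_charZero F
      exact not_finite F)⟩
    obtain ⟨n, hpn, hc⟩ := FiniteField.card F p
    rw [hF] at hc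
    have h1 : p ∣ 2 := by
      rw [hc]
      exact dvd_pow_self p n.2.ne'
    have h2 : p = 2 := (Nat.prime_dvd_prime_iff_eq hpn Nat.prime_two).1 h1
    rwa [h2] at hp
  have hTs := h.simple
  have hTf : Finite T := Finite.of_equiv _ f.symm.toEquiv
  have hT : HasFilt 2 T := HasFilt.of_equiv f.symm (KFacts.RgdFiltClass.hasFilt_PSL 2)
  have hcard : Nat.card T = 168 := by
    rw [Nat.card_congr f.toEquiv]
    exact card_psl_three_two hF
  obtain ⟨a, b, hab⟩ := h.nab
  have hGn : ∃ a b : G, a * b ≠ b * a := by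
    refine ⟨(e.symm (fun _ => a) : N), (e.symm (fun _ => b) : N), fun h3 => hab ?_⟩
    have h4 : e.symm (fun _ => a) * e.symm (fun _ => b) = e.symm (fun _ => b) * e.symm (fun _ => a) := Subtype.ext h3
    rw [← map_mul, ← map_mul] at h4
    exact congrFun (e.symm.injective h4) ⟨0, h.pos⟩
  obtain ⟨l, M, A, hC, Tt, n, X, R, hW, hBT, hGG, hNc, hconn, hX, hl⟩ := hT.data h.nab
  have hne : Nonempty (Fin l) := ⟨⟨0, hl⟩⟩
  have hk : k = 1 := by
    refine k_eq_one_S h hG hGn (j := MonoidHom.id G) Function.injective_id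
      (by rw [MonoidHom.range_eq_top.2 Function.surjective_id]; infer_instance)
      (by rw [MonoidHom.range_eq_top.2 Function.surjective_id]; exact le_top)
      (rk_ofRGD R hBT hGG hX hconn) fun _ h1 s => ?_
    apply chambers_168 h.nab hcard
    intro j
    rw [P_index e (rk_ofRGD R hBT hGG hX hconn) ⟨0, h.pos⟩ j, h1 j]
  subst hk
  have hs : HasSoc H (Matrix.ProjectiveSpecialLinearGroup (Fin 3) (ZMod 2)) :=
    (hasSoc_of_eps h).congr (f.trans (Cfsg.Agent.LieClassical.FieldTransfer.pslCongr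
      (FiniteField.ringEquivOfCardEq (by rw [hF, ZMod.card]))))
  exact Cfsg.Agent.H358.EP.l27_false (ept_of_eps h) hs (Or.inl hG')

end Cfsg.Agent.H515.EPO.KTwo
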