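import Cfsg.Agent.H515.EPO.Q2PSL
import Cfsg.Agent.H515.EPO.L32

/-!
# S5745, OWN characteristic, `q = 2`: the socles `L_n(2)`, `n ≥ 3` (helper515)
-/

set_option autoImplicit false

namespace Cfsg.Agent.H515.EPO.Q2PSL

open Cfsg.Agent.H209.EPX

/-- **the socle `L_d(2) ^ k`, `d ≥ 3`** -/
theorem q2_psl_all {G : Type} [Group G] [Finite G] [IsSimpleGroup G] (hGF : KFacts.RgdFilt.HasFilt 2 G)
    {F : H742.EX.Q2.Fam} {f : ℕ} (hok : H742.EX.Q2.okF F f = true) (hG : H742.EX.Q2.IsOrd F f G) {H N : Subgroup G}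
    {T : Type} [Group T] {k : ℕ} {e : N ≃* (Fin k → T)} (h : EPS H N e) {K : Type} [Field K] [Fintype K]
    (hK : Fintype.card K = 2) {d : ℕ} (hd : 3 ≤ d) (g : T ≃* Matrix.ProjectiveSpecialLinearGroup (Fin d) K) :
    False := by
  rcases (by omega : d = 3 ∨ 4 ≤ d) with rfl | h4
  · have h1 : 39191040 < Nat.card G := H742.EX.Q2.low hok hG
    exact KTwo.l32_false hGF (by omega) h hK g
  · exact q2_psl hGF hok hG h hK h4 g

end Cfsg.Agent.H515.EPO.Q2PSL
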