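import Cfsg.Agent.H515.EPO.RelRank
import Cfsg.Agent.H470.EPO.OwnT

/-!
# S3499 / S5745, OWN characteristic: the hypothesis `Rk2` (helper515)

* `rk2_of_three` : connected diagram with at least three nodes;
* `rk2_of_ne` : two simple root groups of different orders.
-/

set_option autoImplicit false
set_option linter.unusedSectionVars false

namespace Cfsg.Agent.H515.EPO

open CoxeterSystem Cfsg.Agent.ChevalleyStructure.CoxeterGeom Cfsg.Agent.Tits.Roots Cfsg.Agent.Tits.Core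
  Cfsg.Agent.Tits.RootComb Cfsg.Agent.Tits.Exchange Cfsg.Agent.Nodes.Reps Cfsg.Agent.Nodes.BNOf
  Cfsg.Agent.Nodes.StabComb Cfsg.Agent.Nodes.Bruhat Cfsg.Agent.Nodes.OppDec Cfsg.Agent.Nodes.LeviDec
  Cfsg.Agent.Nodes.Coroot Cfsg.Agent.KFacts.RgdPar Cfsg.Agent.KFacts.RgdSL Cfsg.Agent.KFacts.RgdVJ
  Cfsg.Agent.KFacts.RgdCharP Cfsg.Agent.H737.EPO

section Std

variable {G Y : Type*} [Group G] [Finite G] [Group Y] [Finite Y] {H N : Subgroup G} {k : ℕ}
  (e : N ≃* (Fin k → Y)) {p : ℕ} {I : Type*} (S : PSys Y p I)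

variable [Fact p.Prime] (hN : ∀ g ∈ H, ∀ n ∈ N, g * n * g⁻¹ ∈ N)

include hN

/-- a property of nodes which comes from a conjugation invariant property of the minimal parabolics is invariant -/
theorem inv_of_pred {F : Subgroup G → Prop} (hF : ∀ x ∈ BH H e S, ∀ Q, F Q → F (H284.cj x Q)) {f : I → Prop}
    (hf : ∀ (i : Fin k) (a : I), F (PP e S (H515.EPO.sgl i a)) ↔ f a) : Inv H e S fun _ => {a | f a} := by
  intro x hx
  have hB := BH_cj_B e S hN hx
  obtain ⟨L', hL'⟩ := PP_over e S (L := H284.cj x (PP e S fun _ => {a | f a}))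
    (by rw [← hB]; exact H284.cj_mono ((PP_le_iff e S).2 fun _ => Set.empty_subset _)) (by
      rintro _ ⟨z, hz, rfl⟩
      exact hN x ((mem_BH e S).1 hx).1 z (PP_le e S _ hz))
  rw [hL']
  congr 1
  funext i
  ext a
  have h1 : a ∈ L' i ↔ PP e S (H515.EPO.sgl i a) ≤ PP e S L' := by rw [PP_le_iff, sgl_subset_iff]
  obtain ⟨j, b, hb⟩ := (mn_iff e S).1 (((mn_iff e S).2 ⟨i, a, rfl⟩ : Mn e S (PP e S (H515.EPO.sgl i a))).cj e S hN
    (inv_mem hx))
  have h2 : PP e S (H515.EPO.sgl i a) ≤ PP e S L' ↔ PP e S (H515.EPO.sgl j b) ≤ PP e S fun _ => {a | f a} := by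
    rw [← hL', ← hb]
    constructor
    · intro h3
      have := H284.cj_mono (x := x⁻¹) h3
      rwa [H284.cj_inv_cj] at this
    · intro h3
      have := H284.cj_mono (x := x) h3
      rwa [H284.cj_cj_inv] at this
  rw [h1, h2, PP_le_iff, sgl_subset_iff]
  show f b ↔ f a
  rw [← hf j b, ← hf i a, ← hb]
  constructor
  · intro h3
    have := hF x hx _ h3
    rwa [H284.cj_cj_inv] at this
  · intro h3
    exact hF x⁻¹ (inv_mem hx) _ h3

/-- the nodes with a given order of the root group -/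
theorem inv_card (hS : Rk S) (c : ℕ) : Inv H e S fun _ => {a | (S.V {a}).relIndex (S.V ∅) = c} := by
  refine inv_of_pred e S hN (F := fun Q => (PP e S fun _ => ∅).relIndex Q = 1 + c) (fun x hx Q hQ => ?_) fun i a => ?_
  · have hB := BH_cj_B e S hN hx
    have h1 : (H284.cj x (PP e S fun _ => ∅)).relIndex (H284.cj x Q) = (PP e S fun _ => ∅).relIndex Q :=
      Subgroup.relIndex_map_map_of_injective _ _ (MulAut.conj x).injective
    rw [hB] at h1
    show (PP e S fun _ => ∅).relIndex (H284.cj x Q) = 1 + c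
    rw [h1]
    exact hQ
  · have h1 : (PP e S fun _ => ∅).relIndex (PP e S (H737.EPO.sgl i a)) = 1 + (S.V {a}).relIndex (S.V ∅) := by
      rw [PP_index e hS i a, VV_index]
    show (PP e S fun _ => ∅).relIndex (PP e S (H737.EPO.sgl i a)) = 1 + c ↔ _
    rw [h1]
    omega

end Std

section Main

variable {I W Y : Type*} [Fintype I] [DecidableEq I] [Group W] [Finite W] [Group Y] [Finite Y] {M : CoxeterMatrix I}
  {cs : CoxeterSystem M W} {A : I → I → ℤ} {h : IsCartan M A} {p : ℕ} [Fact p.Prime] {T : Subgroup Y} {n : I → Y}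
  {X : (I → ℤ) → Subgroup Y} (R : RGD cs h p T n X) (hBT : BT cs h p T X)
  (hG : GG cs h T X = ⊤) (hX : RGD.Sup X {x | IsRoot cs h x} = ⊤) (hconn : Conn M)
  {G : Type*} [Group G] [Finite G] {H N : Subgroup G} {k : ℕ} (hk : 0 < k)
  (hN : ∀ g ∈ H, ∀ n ∈ N, g * n * g⁻¹ ∈ N)

include hN hk

theorem rk2_of_three (h3 : 3 ≤ Fintype.card I) : H470.EPO.Rk2 H N k (ofRGD R hBT hG hX hconn) := by
  intro e
  obtain ⟨K, h1, h2, h4⟩ := exists_inv R hBT hG hX hconn h3 e hN
  exact ⟨K, h4, ⟨⟨0, hk⟩, h1 _⟩, ⟨⟨0, hk⟩, h2 _⟩⟩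

theorem rk2_of_ne {i j : I} (hij : Nat.card (X (sr i)) ≠ Nat.card (X (sr j))) :
    H470.EPO.Rk2 H N k (ofRGD R hBT hG hX hconn) := by
  intro e
  refine ⟨_, inv_card e (ofRGD R hBT hG hX hconn) hN (rk_ofRGD R hBT hG hX hconn) (Nat.card (X (sr i))),
    ⟨⟨0, hk⟩, ?_⟩, ⟨⟨0, hk⟩, ?_⟩⟩
  · intro h1
    have h2 : i ∈ {a | ((ofRGD R hBT hG hX hconn).V {a}).relIndex ((ofRGD R hBT hG hX hconn).V ∅) =
        Nat.card (X (sr i))} := relIndex_ofRGD R hBT hG hX hconn i
    have h3 : {a | ((ofRGD R hBT hG hX hconn).V {a}).relIndex ((ofRGD R hBT hG hX hconn).V ∅) =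
        Nat.card (X (sr i))} = (∅ : Set I) := h1
    rw [h3] at h2
    exact h2
  · intro h1
    have h3 : {a | ((ofRGD R hBT hG hX hconn).V {a}).relIndex ((ofRGD R hBT hG hX hconn).V ∅) =
        Nat.card (X (sr i))} = (Set.univ : Set I) := h1
    have h2 : j ∈ {a | ((ofRGD R hBT hG hX hconn).V {a}).relIndex ((ofRGD R hBT hG hX hconn).V ∅) =
        Nat.card (X (sr i))} := by rw [h3]; trivial
    apply hij
    rw [← relIndex_ofRGD R hBT hG hX hconn j]
    exact h2.symm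

end Main

end Cfsg.Agent.H515.EPO
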